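import Mathlib.GroupTheory.Solvable
import Mathlib.GroupTheory.QuotientGroup.Basic
import Mathlib.Algebra.Group.Subgroup.Finite
import Cfsg.Agent.Lib.Cores.Basic

/-!
The solvable radical of a finite group.
-/

set_option autoImplicit false
set_option linter.unusedSectionVars false
set_option linter.style.haveILetI false

namespace Cfsg.Agent.Lib.PrimePowerClass.Radical

open Subgroup

variable {G : Type*} [Group G]

/-- The solvable radical: the join of the solvable normal subgroups. -/
def solRad (G : Type*) [Group G] : Subgroup G :=
  sSup {N : Subgroup G | N.Normal ∧ Group.IsSolvable N}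

instance solRad_normal : (solRad G).Normal := Subgroup.sSup_normal _ (fun _ h => h.1)

theorem le_solRad {N : Subgroup G} [hN : N.Normal] (h : Group.IsSolvable N) : N ≤ solRad G :=
  le_sSup ⟨hN, h⟩

/-- An extension of solvable by solvable, along an arbitrary homomorphism. -/
theorem isSolvable_of_map {Q : Type*} [Group Q] (f : G →* Q) (L : Subgroup G)
    (h1 : Group.IsSolvable (f.ker ⊓ L : Subgroup G)) (h2 : Group.IsSolvable (L.map f)) :
    Group.IsSolvable L := by
  haveI := h1
  haveI := h2
  refine Group.isSolvable_of_ker_le_range (Subgroup.inclusion (inf_le_right : f.ker ⊓ L ≤ L))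
    ((f.comp L.subtype).codRestrict (L.map f) (fun x => ⟨x, x.2, rfl⟩)) ?_
  intro x hx
  rw [MonoidHom.mem_ker] at hx
  have hx' : f (x : G) = 1 := congrArg Subtype.val hx
  exact ⟨⟨x, hx', x.2⟩, rfl⟩

theorem isSolvable_bot : Group.IsSolvable (⊥ : Subgroup G) :=
  Group.isSolvable_of_comm fun _ _ => Subsingleton.elim _ _

theorem isSolvable_sup {H K : Subgroup G} [H.Normal] (hH : Group.IsSolvable H)
    (hK : Group.IsSolvable K) : Group.IsSolvable (H ⊔ K : Subgroup G) := by
  haveI := hH
  haveI := hK
  refine isSolvable_of_map (QuotientGroup.mk' H) _ ?_ ?_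
  · exact Group.isSolvable_of_isSolvable_injective
      (f := Subgroup.inclusion (show (QuotientGroup.mk' H).ker ⊓ (H ⊔ K) ≤ H by
        rw [QuotientGroup.ker_mk']; exact inf_le_left)) (Subgroup.inclusion_injective _)
  · rw [Subgroup.map_sup, QuotientGroup.map_mk'_self, bot_sup_eq]
    exact Group.isSolvable_of_surjective ((QuotientGroup.mk' H).subgroupMap_surjective K)

theorem solRad_isSolvable [Finite G] : Group.IsSolvable (solRad G) :=
  Cfsg.Agent.Lib.Cores.sSup_normal_mem (P := fun N : Subgroup G => Group.IsSolvable N) isSolvable_bot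
    (fun H _ hH _ h1 h2 => by haveI := hH; exact isSolvable_sup h1 h2)

theorem map_solRad_le {Q : Type*} [Group Q] [Finite G] (f : G →* Q) (hf : Function.Surjective f) :
    (solRad G).map f ≤ solRad Q := by
  haveI : ((solRad G).map f).Normal := Normal.map (inferInstance) f hf
  haveI := solRad_isSolvable (G := G)
  exact le_solRad (Group.isSolvable_of_surjective (f.subgroupMap_surjective _))

theorem solRad_characteristic [Finite G] : (solRad G).Characteristic :=
  Subgroup.characteristic_iff_map_le.mpr fun φ => map_solRad_le φ.toMonoidHom φ.surjective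

/-- The preimage of the solvable radical of a quotient by a solvable kernel is solvable. -/
theorem comap_solRad_le [Finite G] {Q : Type*} [Group Q] [Finite Q] (f : G →* Q)
    (h : Group.IsSolvable f.ker) : (solRad Q).comap f ≤ solRad G := by
  haveI := h
  haveI := solRad_isSolvable (G := Q)
  refine le_solRad (isSolvable_of_map f _ ?_ ?_)
  · exact Group.isSolvable_of_isSolvable_injective
      (f := Subgroup.inclusion (inf_le_left : f.ker ⊓ (solRad Q).comap f ≤ f.ker))
      (Subgroup.inclusion_injective _)
  · exact Group.isSolvable_of_isSolvable_injective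
      (f := Subgroup.inclusion (map_comap_le f (solRad Q))) (Subgroup.inclusion_injective _)

/-- In a nonsolvable minimal normal subgroup only the trivial normal subgroup is solvable. -/
theorem eq_bot_of_minimal [Finite G] {N : Subgroup G} [N.Normal] (hns : ¬ Group.IsSolvable N)
    (hmin : ∀ M : Subgroup G, M.Normal → M ≤ N → M = ⊥ ∨ M = N)
    {A : Subgroup G} (hAN : A ≤ N) (hA : Group.IsSolvable A)
    (hnorm : N ≤ normalizer (A : Set G)) : A = ⊥ := by
  haveI := solRad_characteristic (G := N)
  haveI := solRad_isSolvable (G := N)
  have hR : ((solRad N).map N.subtype).Normal := ConjAct.normal_of_characteristic_of_normal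
  have hbot : (solRad N).map N.subtype = ⊥ := by
    refine (hmin _ hR (map_subtype_le _)).resolve_right fun h => hns ?_
    have hsol : Group.IsSolvable ((solRad N).map N.subtype) :=
      Group.isSolvable_of_surjective (N.subtype.subgroupMap_surjective _)
    rwa [h] at hsol
  haveI : (A.subgroupOf N).Normal := (normal_subgroupOf_iff_le_normalizer hAN).mpr hnorm
  have h1 : A.subgroupOf N ≤ solRad N := le_solRad <|
    haveI := hA
    Group.isSolvable_of_isSolvable_injective (f := (subgroupOfEquivOfLe hAN).toMonoidHom)
      (subgroupOfEquivOfLe hAN).injective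
  have h2 := Subgroup.map_mono (f := N.subtype) h1
  rwa [subgroupOf_map_subtype, inf_eq_left.mpr hAN, hbot, le_bot_iff] at h2

end Cfsg.Agent.Lib.PrimePowerClass.Radical
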