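import Cfsg.Agent.Lib.PrimePowerClass.Radical
import Cfsg.Agent.Lib.SylowNumbers.Basic
import Cfsg.Agent.Lib.Blocks.Orthogonality
import Cfsg.Agent.Lib.Induced.Burnside
import Cfsg.Agent.Lib.Cores.MinNormal

/-!
Kazarin's theorem: an element whose conjugacy class has prime-power size lies in the solvable radical.

The key step is character theoretic.  If `G = N⟨x⟩` with `N` the unique minimal normal subgroup,
nonsolvable, then for a prime `r ∣ #N` prime to `#G/N` and to the class size `p ^ a` every
non-principal character of the principal `r`-block has degree divisible by `p`, against weak block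
orthogonality.
-/

set_option autoImplicit false
set_option linter.unusedSectionVars false
set_option linter.style.haveILetI false

namespace Cfsg.Agent.Lib.PrimePowerClass.Basic

open Subgroup
open Cfsg.Agent.Lib.PrimePowerClass.Radical
open scoped ComplexConjugate

universe u

variable {G : Type u} [Group G] [Finite G]

/-- The size of the class of an element inside a normal subgroup divides its size in the group. -/
theorem relIndex_centralizer_dvd (x : G) (N : Subgroup G) [N.Normal] :
    (centralizer ({x} : Set G)).relIndex N ∣ (centralizer ({x} : Set G)).index :=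
  Cfsg.Agent.Lib.SylowNumbers.Basic.relIndex_dvd_index_of_normal_right _ _

/-- If the class of `x` has `p`-power size then `G = P * C(x)` for any Sylow `p`-subgroup `P`. -/
theorem exists_mul_centralizer {p : ℕ} [Fact p.Prime] {x : G} {a : ℕ}
    (hx : (centralizer ({x} : Set G)).index = p ^ a) (P : Sylow p G) (g : G) :
    ∃ u ∈ (P : Subgroup G), ∃ c ∈ centralizer ({x} : Set G), u * c = g := by
  classical
  set C := centralizer ({x} : Set G) with hC
  have hp : p.Prime := Fact.out
  have hle : p ^ a ≤ C.relIndex (P : Subgroup G) := by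
    have h1 := relIndex_mul_relIndex ⊥ ((P : Subgroup G) ⊓ C) (P : Subgroup G) bot_le inf_le_left
    rw [relIndex_bot_left, relIndex_bot_left, inf_relIndex_left] at h1
    have hPC : IsPGroup p ((P : Subgroup G) ⊓ C : Subgroup G) := P.isPGroup'.to_inf_left
    obtain ⟨i, hi⟩ := IsPGroup.iff_card.mp hPC
    have h2 := C.card_mul_index
    rw [hx, ← (P : Subgroup G).card_mul_index] at h2
    have h3 : p ^ i ∣ Nat.card C := hi ▸ card_dvd_of_le inf_le_right
    have h4 : p ^ (i + a) ∣ Nat.card (P : Subgroup G) := by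
      have h5 : p ^ (i + a) ∣ Nat.card (P : Subgroup G) * (P : Subgroup G).index := by
        rw [← h2, pow_add]; exact Nat.mul_dvd_mul_right h3 _
      exact ((hp.coprime_iff_not_dvd.mpr P.not_dvd_index).pow_left (i + a)).dvd_of_dvd_mul_right h5
    rw [← h1, hi, pow_add] at h4
    exact Nat.le_of_dvd (Nat.pos_of_ne_zero Subgroup.index_ne_zero_of_finite)
      ((Nat.mul_dvd_mul_iff_left (Nat.pow_pos hp.pos)).mp h4)
  -- the map from cosets of `P ∩ C` in `P` to cosets of `C` is bijective
  let f : (P : Subgroup G) ⧸ (C.subgroupOf (P : Subgroup G)) → G ⧸ C :=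
    Quotient.map' Subtype.val (fun u v h => by
      rw [QuotientGroup.leftRel_apply] at h ⊢
      exact h)
  have hinj : Function.Injective f := by
    intro q q' h
    obtain ⟨u, rfl⟩ := QuotientGroup.mk_surjective q
    obtain ⟨v, rfl⟩ := QuotientGroup.mk_surjective q'
    have h' : ((u : G) : G ⧸ C) = ((v : G) : G ⧸ C) := h
    exact QuotientGroup.eq.mpr (mem_subgroupOf.mpr (by simpa using (QuotientGroup.eq (s := C)).mp h'))
  have hcard : Nat.card (G ⧸ C) ≤ Nat.card ((P : Subgroup G) ⧸ (C.subgroupOf (P : Subgroup G))) := by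
    rw [← Subgroup.index, hx]; exact hle
  have hbij := hinj.bijective_of_nat_card_le hcard
  obtain ⟨q, hq⟩ := hbij.2 (g : G ⧸ C)
  obtain ⟨u, rfl⟩ := QuotientGroup.mk_surjective q
  exact ⟨u, u.2, (u : G)⁻¹ * g, QuotientGroup.eq.mp hq, mul_inv_cancel_left _ _⟩

/-- The character theoretic core of Kazarin's theorem. -/
theorem false_of_core {p q r a m : ℕ} (hp : p.Prime) (hr : r.Prime) (hrp : r ≠ p)
    (hq : q.Prime) (hrq : r ≠ q) (N : Subgroup G) [N.Normal]
    (hrN : r ∣ Nat.card N)
    (hmin : ∀ M : Subgroup G, M.Normal → M ≤ N → M = ⊥ ∨ M = N)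
    (hCN : centralizer (N : Set G) = ⊥) {x : G} (hgen : N ⊔ zpowers x = ⊤)
    (hord : orderOf x = q ^ m) (hx : x ≠ 1)
    (hclass : (centralizer ({x} : Set G)).index = p ^ a) : False := by
  classical
  haveI : Fact r.Prime := ⟨hr⟩
  obtain ⟨M, hM⟩ := Cfsg.Agent.Lib.Blocks.exists_isPModular r hr
  haveI : M.IsMaximal := hM.2.1
  haveI := Fintype.ofFinite G
  haveI := Fintype.ofFinite (Cfsg.IrrCharacter G)
  obtain ⟨⟨y, hyN⟩, hy⟩ := exists_prime_orderOf_dvd_card' r hrN
  rw [Subgroup.orderOf_mk] at hy
  set one := Cfsg.Agent.Lib.Characters.Basic.oneChar G with hone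
  have hxZ : x ∉ center G := fun h => hx (by
    have h' : x ∈ centralizer (N : Set G) := center_le_centralizer _ h
    rw [hCN] at h'
    exact h')
  have hterm : ∀ χ : Cfsg.IrrCharacter G, χ ∈ Cfsg.principalBlock M G → χ ≠ one →
      ∃ z : ℂ, IsIntegral ℤ z ∧ (χ : G → ℂ) 1 * conj ((χ : G → ℂ) y) = (p : ℂ) * z := by
    intro χ hχB hχ
    obtain ⟨n, ρ, hρ, hchar⟩ := χ.2
    have hd : (χ : G → ℂ) 1 = (Module.finrank ℂ (Fin n → ℂ) : ℂ) := by
      rw [← hchar, Representation.char_one]
    by_cases hdvd : p ∣ Module.finrank ℂ (Fin n → ℂ)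
    · obtain ⟨t, ht⟩ := hdvd
      refine ⟨(t : ℂ) * conj ((χ : G → ℂ) y), (isIntegral_algebraMap (R := ℤ) (x := (t : ℤ))).mul ?_, ?_⟩
      · rw [← Cfsg.Agent.Lib.Characters.Basic.apply_inv (Cfsg.Agent.Lib.Characters.Basic.isCharacter_irr χ)]
        exact Cfsg.Agent.Lib.Characters.Basic.isIntegral_apply (Cfsg.Agent.Lib.Characters.Basic.isCharacter_irr χ) _
      · rw [hd, ht, Nat.cast_mul, mul_assoc]
    exfalso
    apply hχ
    -- the congruence of central characters at `x`
    have hcong : Cfsg.MemLocalIdeal M (Cfsg.centralChar (fun _ : G => (1 : ℂ)) x - Cfsg.centralChar (χ : G → ℂ) x) :=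
      hχB x
    have hp' : ¬ Cfsg.MemLocalIdeal M ((p ^ a : ℕ) : ℂ) := by
      rw [Cfsg.Agent.Lib.Blocks.memLocalIdeal_natCast_iff hM]
      intro h
      exact hrp ((Nat.prime_dvd_prime_iff_eq hr hp).mp (hr.dvd_of_dvd_pow h))
    have hone' : Cfsg.centralChar (fun _ : G => (1 : ℂ)) x = ((p ^ a : ℕ) : ℂ) := by
      simp [Cfsg.centralChar, hclass]
    have hne0 : (χ : G → ℂ) x ≠ 0 := by
      intro h0
      apply hp'
      rw [hone'] at hcong
      simpa [Cfsg.centralChar, h0] using hcong
    have hcop : Nat.Coprime (Module.finrank ℂ (Fin n → ℂ)) (centralizer ({x} : Set G)).index := by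
      rw [hclass]
      exact ((hp.coprime_iff_not_dvd.mpr hdvd).symm.pow_right a)
    haveI := hρ
    have hnorm : ‖ρ.character x‖ = (Module.finrank ℂ (Fin n → ℂ) : ℝ) :=
      (Cfsg.Agent.Lib.Induced.Integral.zero_or_norm_eq_of_coprime ρ x hcop).resolve_left (by rwa [hchar])
    obtain ⟨c, hc⟩ := Cfsg.Agent.Lib.Induced.Integral.scalar_of_norm_character_eq ρ hnorm
    have hker : N ≤ ρ.ker := by
      rcases hmin (N ⊓ ρ.ker) inferInstance inf_le_left with h | h
      · exfalso
        apply hxZ
        have hle : ρ.ker ≤ centralizer (N : Set G) := fun k hk => by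
          rw [mem_centralizer_iff]
          intro n hn
          have : k * n * k⁻¹ * n⁻¹ ∈ N ⊓ ρ.ker := by
            refine Subgroup.mem_inf.mpr ⟨mul_mem ((inferInstance : N.Normal).conj_mem n hn k) (inv_mem hn), ?_⟩
            rw [show k * n * k⁻¹ * n⁻¹ = k * (n * k⁻¹ * n⁻¹) by group]
            exact mul_mem hk ((inferInstance : ρ.ker.Normal).conj_mem _ (inv_mem hk) n)
          rw [h, mem_bot] at this
          calc n * k = (k * n * k⁻¹ * n⁻¹)⁻¹ * (k * n) := by group
            _ = k * n := by rw [this]; group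
        rw [hCN, le_bot_iff] at hle
        refine mem_center_iff.mpr fun g => ?_
        apply (MonoidHom.ker_eq_bot_iff ρ).mp hle
        rw [map_mul, map_mul, hc]
        ext v
        simp
      · exact h ▸ inf_le_right
    have hall : ∀ g : G, ∃ i : ℤ, ρ g = ρ (x ^ i) := by
      intro g
      have hg : g ∈ N ⊔ zpowers x := hgen ▸ mem_top g
      rw [← SetLike.mem_coe, normal_mul, Set.mem_mul] at hg
      obtain ⟨u, hu, w, hw, rfl⟩ := hg
      obtain ⟨i, rfl⟩ := mem_zpowers_iff.mp hw
      exact ⟨i, by rw [map_mul, show ρ u = 1 from (hker hu : u ∈ ρ.ker), one_mul]⟩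
    have hscal : ∀ g : G, ∃ d : ℂ, ρ g = d • LinearMap.id := by
      intro g
      obtain ⟨i, hi⟩ := hall g
      obtain ⟨k, hk⟩ : ∃ k : ℕ, x ^ i = x ^ k :=
        ⟨(i % orderOf x).toNat, by
          rw [← zpow_natCast, Int.toNat_of_nonneg (Int.emod_nonneg _ (by have := orderOf_pos x; omega)), zpow_mod_orderOf]⟩
      refine ⟨c ^ k, ?_⟩
      rw [hi, hk, map_pow, hc, smul_pow]
      congr 1
      exact one_pow k
    have hnorm' : ∀ g : G, (χ : G → ℂ) g * conj ((χ : G → ℂ) g) =
        (Module.finrank ℂ (Fin n → ℂ) : ℂ) ^ 2 := by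
      intro g
      have hfo : IsOfFinOrder g := isOfFinOrder_of_finite g
      obtain ⟨d, hdg⟩ := hscal g
      have e1 : (χ : G → ℂ) g = d * (χ : G → ℂ) 1 := by
        rw [← hchar, Representation.character, Representation.character, hdg, map_one, map_smul,
          smul_eq_mul]
        rfl
      obtain ⟨d', hdg'⟩ := hscal g⁻¹
      have e2 : conj ((χ : G → ℂ) g) = d' * (χ : G → ℂ) 1 := by
        rw [← Cfsg.Agent.Lib.Characters.Basic.apply_inv (Cfsg.Agent.Lib.Characters.Basic.isCharacter_irr χ),
          ← hchar, Representation.character, Representation.character, hdg', map_one, map_smul,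
          smul_eq_mul]
        rfl
      have hdd : (Module.finrank ℂ (Fin n → ℂ) : ℂ) * (d * d') = (Module.finrank ℂ (Fin n → ℂ) : ℂ) := by
        have h1 := congrArg (LinearMap.trace ℂ (Fin n → ℂ)) (map_mul ρ g g⁻¹)
        rw [mul_inv_cancel, map_one, hdg, hdg', LinearMap.trace_one, smul_mul_smul_comm, map_smul,
          smul_eq_mul] at h1
        rw [show LinearMap.trace ℂ (Fin n → ℂ) (LinearMap.id * LinearMap.id) =
            (Module.finrank ℂ (Fin n → ℂ) : ℂ) from LinearMap.trace_one ℂ _] at h1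
        rw [mul_comm]
        exact h1.symm
      rw [e2, e1, hd]
      calc d * (Module.finrank ℂ (Fin n → ℂ) : ℂ) * (d' * Module.finrank ℂ (Fin n → ℂ))
          = ((Module.finrank ℂ (Fin n → ℂ) : ℂ) * (d * d')) * Module.finrank ℂ (Fin n → ℂ) := by ring
        _ = _ := by rw [hdd, pow_two]
    have h1 := Cfsg.Agent.Lib.Characters.Basic.classInner_self_irr χ
    rw [Cfsg.classInner] at h1
    simp only [hnorm', Finset.sum_const, Finset.card_univ, nsmul_eq_mul,
      Fintype.card_eq_nat_card] at h1
    rw [← mul_assoc, inv_mul_cancel₀ (Nat.cast_ne_zero.mpr Nat.card_pos.ne'), one_mul,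
      ← Nat.cast_pow, Nat.cast_eq_one, Nat.pow_eq_one] at h1
    replace h1 := h1.resolve_right (by norm_num)
    have hone1 : (χ : G → ℂ) 1 = 1 := by rw [hd, h1, Nat.cast_one]
    -- a linear character trivial on `N`; its value at `x` is a root of unity
    have hid : ∀ g, ∃ d : ℂ, ρ g = d • LinearMap.id ∧ (χ : G → ℂ) g = d := by
      intro g
      obtain ⟨d, hdg⟩ := hscal g
      refine ⟨d, hdg, ?_⟩
      rw [← hchar, Representation.character, hdg, map_smul, smul_eq_mul, LinearMap.trace_id, h1,
        Nat.cast_one, mul_one]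
    obtain ⟨c', hc', hcx⟩ := hid x
    have hcpow : c' ^ q ^ m = 1 := by
      have h2 : ρ (x ^ q ^ m) = 1 := by rw [← hord, pow_orderOf_eq_one, map_one]
      rw [map_pow, hc', smul_pow] at h2
      have h3 := congrArg (LinearMap.trace ℂ (Fin n → ℂ)) h2
      rw [map_smul, smul_eq_mul, show (LinearMap.id : (Fin n → ℂ) →ₗ[ℂ] (Fin n → ℂ)) ^ (q ^ m) = 1 from one_pow _,
        LinearMap.trace_one, h1, Nat.cast_one, mul_one] at h3
      exact h3
    have hint : IsIntegral ℤ c' := hcx ▸
      Cfsg.Agent.Lib.Characters.Basic.isIntegral_apply (Cfsg.Agent.Lib.Characters.Basic.isCharacter_irr χ) x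
    have hc1 : c' = 1 := by
      have h2 : Cfsg.MemLocalIdeal M (((p ^ a : ℕ) : ℂ) * (1 - c')) := by
        have : ((p ^ a : ℕ) : ℂ) * (1 - c') = Cfsg.centralChar (fun _ : G => (1 : ℂ)) x -
            Cfsg.centralChar (χ : G → ℂ) x := by
          rw [hone']
          simp [Cfsg.centralChar, hone1, hcx, hclass]
          ring
        rw [this]; exact hcong
      have h3 : Cfsg.MemLocalIdeal M (1 - c') := by
        by_contra h3
        refine Cfsg.Agent.Lib.Blocks.not_memLocalIdeal_mul ?_ ?_ hp' h3 h2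
        · exact Cfsg.Agent.Lib.Blocks.mem_localRing_of_isIntegral
            (by rw [show ((p ^ a : ℕ) : ℂ) = algebraMap ℤ ℂ ((p ^ a : ℕ) : ℤ) by simp]; exact isIntegral_algebraMap)
        · exact Cfsg.Agent.Lib.Blocks.mem_localRing_of_isIntegral (isIntegral_one.sub hint)
      have h4 : (1 : Cfsg.AlgInt) - ⟨c', hint⟩ ∈ M := by
        rw [← Cfsg.Agent.Lib.Blocks.memLocalIdeal_algInt_iff]
        push_cast
        exact h3
      have h5 := Cfsg.Agent.Lib.Blocks.rootOfUnity_eq_of_sub_mem hM (m := q ^ m)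
        (fun h => hrq ((Nat.prime_dvd_prime_iff_eq hr hq).mp (hr.dvd_of_dvd_pow h))) (by simp)
        (by exact hcpow) h4
      exact (congrArg Subtype.val h5).symm
    apply Subtype.ext
    funext g
    rw [Cfsg.Agent.Lib.Characters.Basic.oneChar_apply, ← hchar]
    obtain ⟨i, hi⟩ := hall g
    rw [Representation.character, hi]
    have hx1 : ρ x = 1 := by rw [hc', hc1, one_smul]; rfl
    have : ρ (x ^ i) = 1 := zpow_mem (show x ∈ ρ.ker from hx1) i
    rw [this, LinearMap.trace_one, h1, Nat.cast_one]
  choose! z hz hzeq using hterm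
  have hsum := Cfsg.Agent.Lib.Blocks.weak_orthogonality hM
    (Cfsg.Agent.Lib.Blocks.isPBlock_principalBlock (G := G) (M := M))
    (x := (1 : G)) (y := y) (by simp [hr.ne_one]) (by rw [hy])
  rw [finsum_mem_eq_finite_toFinset_sum _ (Set.toFinite _)] at hsum
  set B := (Set.toFinite (Cfsg.principalBlock M G)).toFinset with hB
  have honeB : one ∈ B := (Set.Finite.mem_toFinset _).mpr Cfsg.Agent.Lib.Blocks.oneChar_mem_principalBlock
  rw [← Finset.add_sum_erase _ _ honeB,
    Finset.sum_congr rfl (fun χ hχ => hzeq χ ((Set.Finite.mem_toFinset _).mp (Finset.mem_of_mem_erase hχ))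
      (Finset.ne_of_mem_erase hχ)), ← Finset.mul_sum,
    Cfsg.Agent.Lib.Characters.Basic.oneChar_apply, Cfsg.Agent.Lib.Characters.Basic.oneChar_apply,
    map_one, one_mul] at hsum
  set Z := ∑ χ ∈ B.erase one, z χ
  have hZ : IsIntegral ℤ Z := IsIntegral.sum _ fun χ hχ =>
    hz χ ((Set.Finite.mem_toFinset _).mp (Finset.mem_of_mem_erase hχ)) (Finset.ne_of_mem_erase hχ)
  have hp0 : (p : ℚ) ≠ 0 := by exact_mod_cast hp.ne_zero
  have hZq : Z = algebraMap ℚ ℂ (-(1 / p : ℚ)) := by
    have hpC : (p : ℂ) ≠ 0 := by exact_mod_cast hp.ne_zero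
    rw [eq_ratCast]
    push_cast
    field_simp
    linear_combination hsum
  rw [hZq, isIntegral_algebraMap_iff (algebraMap ℚ ℂ).injective,
    IsIntegrallyClosed.isIntegral_iff] at hZ
  obtain ⟨k, hk⟩ := hZ
  have h2 : (k : ℚ) * p = -1 := by
    rw [← eq_intCast (algebraMap ℤ ℚ), hk]
    field_simp
  have h3 : k * (p : ℤ) = -1 := by exact_mod_cast h2
  have h4 : k.natAbs * p = 1 := by simpa [Int.natAbs_mul] using congrArg Int.natAbs h3
  exact hp.one_lt.ne' (mul_eq_one.mp h4).2

/-- A subgroup meeting a kernel trivially is centralised by an element mapping into the solvable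
radical, when it is normal and has no solvable normal subgroup. -/
theorem commute_of_map_mem {Q : Type u} [Group Q] [Finite Q] (f : G →* Q) {N : Subgroup G}
    [N.Normal] (hns : ¬ Group.IsSolvable N)
    (hmin : ∀ M : Subgroup G, M.Normal → M ≤ N → M = ⊥ ∨ M = N) (hker : f.ker ⊓ N = ⊥) {x : G}
    (hx : f x ∈ solRad Q) : ∀ n ∈ N, n * x = x * n := by
  set A := (solRad Q).comap f ⊓ N with hA
  haveI : A.Normal := inferInstance
  haveI := solRad_isSolvable (G := Q)
  have hAsol : Group.IsSolvable A := by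
    refine isSolvable_of_map f A ?_ ?_
    · have : f.ker ⊓ A = ⊥ := le_bot_iff.mp (hker ▸ inf_le_inf_left _ inf_le_right)
      rw [this]; exact isSolvable_bot
    · exact Group.isSolvable_of_isSolvable_injective
        (f := Subgroup.inclusion ((Subgroup.map_mono inf_le_left).trans (map_comap_le f (solRad Q))))
        (Subgroup.inclusion_injective _)
  have hbot : A = ⊥ := eq_bot_of_minimal hns hmin inf_le_right hAsol
    (by rw [normalizer_eq_top]; exact le_top)
  intro n hn
  have hmem : x * n * x⁻¹ * n⁻¹ ∈ A := by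
    refine Subgroup.mem_inf.mpr ⟨?_, mul_mem ((inferInstance : N.Normal).conj_mem n hn x) (inv_mem hn)⟩
    rw [mem_comap, show x * n * x⁻¹ * n⁻¹ = x * (n * x⁻¹ * n⁻¹) by group, map_mul, map_mul, map_mul,
      map_inv, map_inv]
    exact mul_mem hx ((solRad_normal (G := Q)).conj_mem _ (inv_mem hx) (f n))
  rw [hbot, mem_bot] at hmem
  calc n * x = (x * n * x⁻¹ * n⁻¹)⁻¹ * (x * n) := by group
    _ = x * n := by rw [hmem]; group

/-- An element whose class has `p`-power size and whose order is a prime power lies in the solvable radical. -/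
theorem mem_solRad_of_primePow : ∀ (n : ℕ) {G : Type u} [Group G] [Finite G], Nat.card G = n →
    ∀ {p q a m : ℕ}, p.Prime → q.Prime → ∀ x : G, orderOf x = q ^ m →
    (centralizer ({x} : Set G)).index = p ^ a → x ∈ solRad G := by
  intro n
  induction n using Nat.strong_induction_on with
  | _ n ih =>
  intro G _ _ hG p q a m hp hq x hord hclass
  haveI : Fact p.Prime := ⟨hp⟩
  by_cases hqp : q = p
  · subst hqp
    obtain ⟨P, hP⟩ := (Cfsg.Agent.Lib.SylowNumbers.Basic.isPGroup_zpowers hord).exists_le_sylow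
    have hxP := hP (mem_zpowers x)
    have hle : normalClosure ({x} : Set G) ≤ (P : Subgroup G) := by
      rw [normalClosure, closure_le]
      intro y hy
      rw [Group.mem_conjugatesOfSet_iff] at hy
      obtain ⟨z, hz, hzy⟩ := hy
      rw [Set.mem_singleton_iff] at hz
      subst hz
      obtain ⟨g, rfl⟩ := isConj_iff.mp hzy
      obtain ⟨u, hu, c, hc, rfl⟩ := exists_mul_centralizer hclass P g
      have := mem_centralizer_singleton_iff.mp hc
      rw [show u * c * z * (u * c)⁻¹ = u * (c * z) * c⁻¹ * u⁻¹ by group, this,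
        show u * (z * c) * c⁻¹ * u⁻¹ = u * z * u⁻¹ by group]
      exact mul_mem (mul_mem hu hxP) (inv_mem hu)
    have hp' : IsPGroup q (normalClosure ({x} : Set G)) := P.isPGroup'.to_le hle
    haveI := hp'.isNilpotent
    exact le_solRad (N := normalClosure ({x} : Set G)) inferInstance (subset_normalClosure rfl)
  -- quotients by nontrivial normal subgroups
  have hquot : ∀ N : Subgroup G, ∀ [N.Normal], N ≠ ⊥ → QuotientGroup.mk' N x ∈ solRad (G ⧸ N) := by
    intro N _ hN
    have hlt : Nat.card (G ⧸ N) < n := by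
      have h1 := N.card_eq_card_quotient_mul_card_subgroup
      have h2 : 1 < Nat.card N := (one_lt_card_iff_ne_bot N).mpr hN
      have h3 : 0 < Nat.card (G ⧸ N) := Nat.card_pos
      rw [hG] at h1
      nlinarith
    have hdvd : (centralizer ({QuotientGroup.mk' N x} : Set (G ⧸ N))).index ∣ p ^ a := by
      rw [← hclass]
      refine dvd_trans (index_dvd_of_le ?_) (index_map_dvd (H := centralizer ({x} : Set G))
        (f := QuotientGroup.mk' N) (QuotientGroup.mk'_surjective N))
      rintro z ⟨c, hc, rfl⟩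
      rw [SetLike.mem_coe, mem_centralizer_singleton_iff] at hc
      rw [mem_centralizer_singleton_iff, ← map_mul, ← map_mul, hc]
    obtain ⟨a', -, ha'⟩ := (Nat.dvd_prime_pow hp).mp hdvd
    obtain ⟨m', -, hm'⟩ := (Nat.dvd_prime_pow hq).mp (hord ▸ orderOf_map_dvd (QuotientGroup.mk' N) x)
    exact ih _ hlt rfl hp hq _ hm' ha'
  by_cases hrad : solRad G = ⊥
  swap
  · have h := hquot (solRad G) hrad
    exact comap_solRad_le (QuotientGroup.mk' (solRad G))
      (by rw [QuotientGroup.ker_mk']; exact solRad_isSolvable) h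
  by_cases hx1 : x = 1
  · rw [hx1]; exact one_mem _
  exfalso
  haveI : Nontrivial G := ⟨x, 1, hx1⟩
  obtain ⟨N, hN, hNbot, hmin⟩ := Cfsg.Agent.Lib.Cores.MinNormal.exists_minimal (G := G)
  have hns : ¬ Group.IsSolvable N := fun h => hNbot (le_bot_iff.mp (hrad ▸ le_solRad h))
  have hCN : centralizer (N : Set G) ⊓ N = ⊥ := by
    refine (hmin _ inferInstance inf_le_right).resolve_right fun h => hns ?_
    refine Group.isSolvable_of_comm fun u v => Subtype.ext ?_
    have hu : (u : G) ∈ centralizer (N : Set G) ⊓ N := h.symm ▸ u.2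
    exact (mem_centralizer_iff.mp hu.1 v v.2).symm
  -- it is enough that `x` centralises `N`
  suffices hcomm : ∀ k ∈ N, k * x = x * k by
    set L := (solRad (G ⧸ N)).comap (QuotientGroup.mk' N) ⊓ centralizer (N : Set G) with hL
    haveI := solRad_isSolvable (G := G ⧸ N)
    have hsol : Group.IsSolvable L := by
      refine isSolvable_of_map (QuotientGroup.mk' N) L ?_ ?_
      · rw [QuotientGroup.ker_mk']
        have : N ⊓ L = ⊥ := le_bot_iff.mp (hCN ▸ (inf_comm N L).le.trans (inf_le_inf_right _ inf_le_right))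
        rw [this]; exact isSolvable_bot
      · exact Group.isSolvable_of_isSolvable_injective
          (f := Subgroup.inclusion ((Subgroup.map_mono inf_le_left).trans
            (map_comap_le (QuotientGroup.mk' N) (solRad (G ⧸ N)))))
          (Subgroup.inclusion_injective _)
    have hLbot : L = ⊥ := le_bot_iff.mp (hrad ▸ le_solRad hsol)
    have hxL : x ∈ L := Subgroup.mem_inf.mpr ⟨hquot N hNbot, mem_centralizer_iff.mpr hcomm⟩
    rw [hLbot, mem_bot] at hxL
    exact hx1 hxL
  by_cases htop : N ⊔ zpowers x = ⊤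
  swap
  · set H := N ⊔ zpowers x with hH
    have hlt : Nat.card H < n := by
      rw [← hG]
      exact lt_of_le_of_ne (card_le_card_group _) fun h => htop (eq_top_of_card_eq _ h)
    have hxH : x ∈ H := mem_sup_right (mem_zpowers x)
    have hdvd : (centralizer ({⟨x, hxH⟩} : Set H)).index ∣ p ^ a := by
      have e : (centralizer ({x} : Set G)).subgroupOf H = centralizer ({⟨x, hxH⟩} : Set H) := by
        ext y
        simp only [mem_subgroupOf, mem_centralizer_singleton_iff, Subtype.ext_iff, coe_mul]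
      rw [← e, ← relIndex, ← hclass, hH]
      have h1 : (centralizer ({x} : Set G)).relIndex (N ⊔ zpowers x) =
          (centralizer ({x} : Set G)).relIndex N := by
        have hle : zpowers x ≤ centralizer ({x} : Set G) :=
          zpowers_le.mpr (mem_centralizer_singleton_iff.mpr rfl)
        let f : (N : Subgroup G) ⧸ (centralizer ({x} : Set G)).subgroupOf N →
            ((N ⊔ zpowers x : Subgroup G)) ⧸ (centralizer ({x} : Set G)).subgroupOf (N ⊔ zpowers x) :=
          Quotient.map' (Subgroup.inclusion le_sup_left) (fun u v h => by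
            rw [QuotientGroup.leftRel_apply] at h ⊢
            exact h)
        have hbij : Function.Bijective f := by
          constructor
          · intro u v h
            obtain ⟨u, rfl⟩ := QuotientGroup.mk_surjective u
            obtain ⟨v, rfl⟩ := QuotientGroup.mk_surjective v
            have h' : (u : G)⁻¹ * (v : G) ∈ centralizer ({x} : Set G) :=
              (QuotientGroup.eq (s := (centralizer ({x} : Set G)).subgroupOf (N ⊔ zpowers x))).mp h
            exact QuotientGroup.eq.mpr h'
          · intro w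
            obtain ⟨⟨w, hw⟩, rfl⟩ := QuotientGroup.mk_surjective w
            have hw' := hw
            rw [← SetLike.mem_coe, normal_mul, Set.mem_mul] at hw'
            obtain ⟨u, hu, v, hv, rfl⟩ := hw'
            refine ⟨QuotientGroup.mk ⟨u, hu⟩, QuotientGroup.eq.mpr ?_⟩
            rw [mem_subgroupOf]
            simpa using hle hv
        exact (Nat.card_congr (Equiv.ofBijective f hbij)).symm
      rw [h1]
      exact relIndex_centralizer_dvd x N
    obtain ⟨a', -, ha'⟩ := (Nat.dvd_prime_pow hp).mp hdvd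
    have hrec : (⟨x, hxH⟩ : H) ∈ solRad H := ih _ hlt rfl hp hq ⟨x, hxH⟩ ((Subgroup.orderOf_mk x hxH).trans hord) ha'
    -- the solvable radical of `H` meets `N` trivially
    haveI := solRad_isSolvable (G := H)
    set A := (solRad H).map H.subtype ⊓ N with hA
    have hAsol : Group.IsSolvable A := by
      haveI : Group.IsSolvable ((solRad H).map H.subtype) :=
        Group.isSolvable_of_surjective (H.subtype.subgroupMap_surjective _)
      exact Group.isSolvable_of_isSolvable_injective
        (f := Subgroup.inclusion (inf_le_left : A ≤ (solRad H).map H.subtype)) (Subgroup.inclusion_injective _)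
    have hAbot : A = ⊥ := by
      refine eq_bot_of_minimal hns hmin inf_le_right hAsol ?_
      intro k hk
      rw [mem_normalizer_iff]
      intro w
      constructor
      · rintro ⟨⟨v, hv, rfl⟩, hw2⟩
        refine Subgroup.mem_inf.mpr ⟨⟨⟨k, mem_sup_left hk⟩ * v * (⟨k, mem_sup_left hk⟩ : H)⁻¹,
          (solRad_normal (G := H)).conj_mem v hv _, rfl⟩, hN.conj_mem _ hw2 k⟩
      · intro hw
        obtain ⟨⟨v, hv, hvw⟩, hw2⟩ := Subgroup.mem_inf.mp hw
        refine Subgroup.mem_inf.mpr ⟨⟨(⟨k, mem_sup_left hk⟩ : H)⁻¹ * v * ⟨k, mem_sup_left hk⟩,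
          (solRad_normal (G := H)).conj_mem' v hv _, ?_⟩, ?_⟩
        · change k⁻¹ * (v : G) * k = w
          rw [show (v : G) = k * w * k⁻¹ from hvw]; group
        · have := hN.conj_mem' _ hw2 k
          rwa [show k⁻¹ * (k * w * k⁻¹) * k = w by group] at this
    intro k hk
    have hmem : x * k * x⁻¹ * k⁻¹ ∈ A := by
      refine Subgroup.mem_inf.mpr ⟨⟨⟨x, hxH⟩ * ((⟨k, mem_sup_left hk⟩ : H) * (⟨x, hxH⟩ : H)⁻¹ *
          (⟨k, mem_sup_left hk⟩ : H)⁻¹),
        mul_mem hrec ((solRad_normal (G := H)).conj_mem _ (inv_mem hrec) _), ?_⟩,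
        mul_mem (hN.conj_mem k hk x) (inv_mem hk)⟩
      change x * (k * x⁻¹ * k⁻¹) = x * k * x⁻¹ * k⁻¹
      group
    rw [hAbot, mem_bot] at hmem
    calc k * x = (x * k * x⁻¹ * k⁻¹)⁻¹ * (x * k) := by group
      _ = x * k := by rw [hmem]; group
  by_cases hC : centralizer (N : Set G) = ⊥
  swap
  · exact commute_of_map_mem (QuotientGroup.mk' (centralizer (N : Set G))) hns hmin
      (by rw [QuotientGroup.ker_mk']; exact hCN) (hquot _ hC)
  -- character theoretic case
  exfalso
  obtain ⟨r, hr, hrN, hrp, hrq⟩ : ∃ r, r.Prime ∧ r ∣ Nat.card N ∧ r ≠ p ∧ r ≠ q := by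
    by_contra hcon
    push Not at hcon
    obtain ⟨i, t, ht, hit⟩ := Nat.exists_eq_pow_mul_and_not_dvd (n := Nat.card N) Nat.card_pos.ne' p hp.ne_one
    have htq : t = q ^ t.primeFactorsList.length := by
      refine Nat.eq_prime_pow_of_unique_prime_dvd (fun h => ?_) fun {d} hd hdt => ?_
      · rw [h, mul_zero] at hit; exact Nat.card_pos.ne' hit
      · refine hcon d hd (hit ▸ dvd_mul_of_dvd_right hdt _) fun h => ht ?_
        rwa [h] at hdt
    exact hns (Cfsg.Agent.Lib.Induced.Burnside.isSolvable_of_card_eq p q i t.primeFactorsList.length hp hq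
      (by rw [← htq]; exact hit))
  exact false_of_core hp hr hrp hq hrq N hrN hmin hC htop hord hx1 hclass

/-- Kazarin: an element whose conjugacy class has prime-power size lies in the solvable radical. -/
theorem mem_solRad {p a : ℕ} (hp : p.Prime) (x : G)
    (hclass : (centralizer ({x} : Set G)).index = p ^ a) : x ∈ solRad G := by
  rw [← QuotientGroup.eq_one_iff, ← orderOf_eq_one_iff]
  by_contra hne
  obtain ⟨q, hq, hqd⟩ := Nat.exists_prime_and_dvd hne
  obtain ⟨i, t, ht, hit⟩ := Nat.exists_eq_pow_mul_and_not_dvd (orderOf_pos x).ne' q hq.ne_one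
  have ht0 : t ≠ 0 := by rintro rfl; exact ht (dvd_zero q)
  have hy : orderOf (x ^ t) = q ^ i := by
    rw [orderOf_pow' x ht0, hit, Nat.gcd_eq_right (dvd_mul_left t _), Nat.mul_div_cancel _ (Nat.pos_of_ne_zero ht0)]
  have hdvd : (centralizer ({x ^ t} : Set G)).index ∣ p ^ a := by
    rw [← hclass]
    refine index_dvd_of_le fun c hc => ?_
    rw [mem_centralizer_singleton_iff] at hc ⊢
    exact ((show Commute c x from hc).pow_right t).eq
  obtain ⟨a', -, ha'⟩ := (Nat.dvd_prime_pow hp).mp hdvd
  have h1 := mem_solRad_of_primePow _ rfl hp hq (x ^ t) hy ha'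
  rw [← QuotientGroup.eq_one_iff, QuotientGroup.mk_pow] at h1
  exact ht (hqd.trans (orderOf_dvd_of_pow_eq_one h1))

end Cfsg.Agent.Lib.PrimePowerClass.Basic
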