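import Cfsg.Agent.Lib.PrimePowerClass.Basic
import Cfsg.Agent.Lib.PGroups.Frattini
import Cfsg.Agent.Lib.PSolvable.HallHigman
import Cfsg.Agent.Lib.OrbitPower.Solvable
import Cfsg.Agent.S4364
import Cfsg.Agent.S0029

/-!
Groups in which every `q`-element has conjugacy class of prime-power size.
-/

set_option autoImplicit false
set_option linter.unusedSectionVars false
set_option linter.style.haveILetI false

namespace Cfsg.Agent.Lib.PrimePowerClass.Baer

open Subgroup
open scoped Pointwise

universe u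

variable {G : Type u} [Group G] [Finite G] {q : ℕ} [Fact q.Prime]

/-- The size of the class of an element. -/
noncomputable def classIndex (x : G) : ℕ := (centralizer ({x} : Set G)).index

theorem classIndex_conj (g x : G) : classIndex (g * x * g⁻¹) = classIndex x := by
  have e : centralizer ({g * x * g⁻¹} : Set G) =
      (centralizer ({x} : Set G)).map (MulAut.conj g).toMonoidHom := by
    ext c
    rw [mem_map_equiv, mem_centralizer_singleton_iff, mem_centralizer_singleton_iff,
      MulAut.conj_symm_apply]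
    constructor
    · intro h
      rw [← mul_right_inj g, ← mul_left_inj g⁻¹]
      simpa [mul_assoc] using h
    · intro h
      rw [← mul_right_inj g⁻¹, ← mul_left_inj g]
      simpa [mul_assoc] using h
  rw [classIndex, classIndex, e]
  rw [index_map_of_bijective]
  exact (MulAut.conj g).bijective

theorem classIndex_map_dvd {H : Type*} [Group H] (f : G →* H) (hf : Function.Surjective f) (x : G) :
    classIndex (G := G) x = (centralizer ({x} : Set G)).index ∧
      (centralizer ({f x} : Set H)).index ∣ classIndex x := by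
  refine ⟨rfl, dvd_trans (index_dvd_of_le ?_) (index_map_dvd (H := centralizer ({x} : Set G)) (f := f) hf)⟩
  rintro z ⟨c, hc, rfl⟩
  rw [SetLike.mem_coe, mem_centralizer_singleton_iff] at hc
  rw [mem_centralizer_singleton_iff, ← map_mul, ← map_mul, hc]

theorem isPGroup_zpowers_of_pow {x : G} {k : ℕ} (h : x ^ q ^ k = 1) : IsPGroup q (zpowers x) := by
  obtain ⟨j, -, hj⟩ := (Nat.dvd_prime_pow Fact.out).mp (orderOf_dvd_of_pow_eq_one h)
  exact Cfsg.Agent.Lib.SylowNumbers.Basic.isPGroup_zpowers hj

/-- If the class size of a `q`-element is prime to `q`, it is centralized by `O_q`. -/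
theorem pCore_le_centralizer {x : G} (h : ¬ q ∣ classIndex x) :
    Cfsg.pCore q G ≤ centralizer ({x} : Set G) := by
  obtain ⟨P, hP⟩ := Cfsg.Agent.Lib.SylowNumbers.Basic.exists_sylow_le (p := q) _ h
  exact (Cfsg.Agent.Lib.Cores.pCore_le_sylow P).trans hP

/-- Commuting conjugates generate a normal abelian subgroup, so a `q`-element lies in `O_q`. -/
theorem mem_pCore_of_commute_conj {x : G} {k : ℕ} (hx : x ^ q ^ k = 1)
    (h : ∀ g g' : G, Commute (g * x * g⁻¹) (g' * x * g'⁻¹)) : x ∈ Cfsg.pCore q G := by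
  let N : Subgroup G := normalClosure {x}
  have hgen : ∀ a ∈ Group.conjugatesOfSet ({x} : Set G), ∃ g : G, g * x * g⁻¹ = a := by
    intro a ha
    obtain ⟨x', hx', hxa⟩ := Group.mem_conjugatesOfSet_iff.mp ha
    rw [Set.mem_singleton_iff] at hx'
    rw [hx'] at hxa
    exact isConj_iff.mp hxa
  haveI hNc : IsMulCommutative N := by
    change IsMulCommutative (closure (Group.conjugatesOfSet ({x} : Set G)))
    refine Subgroup.isMulCommutative_closure fun a ha b hb => ?_
    obtain ⟨g, rfl⟩ := hgen a ha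
    obtain ⟨g', rfl⟩ := hgen b hb
    exact (h g g').eq
  let T : Subgroup G :=
    { carrier := {a | a ∈ N ∧ a ^ q ^ k = 1}
      one_mem' := ⟨one_mem N, one_pow _⟩
      mul_mem' := fun {a b} ha hb => ⟨mul_mem ha.1 hb.1, by
        rw [(show Commute a b from congrArg Subtype.val
          (hNc.is_comm.comm ⟨a, ha.1⟩ ⟨b, hb.1⟩)).mul_pow, ha.2, hb.2, one_mul]⟩
      inv_mem' := fun {a} ha => ⟨inv_mem ha.1, by rw [inv_pow, ha.2, inv_one]⟩ }
  haveI : T.Normal := ⟨fun a ha g => ⟨normalClosure_normal.conj_mem a ha.1 g, by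
    rw [conj_pow, ha.2, mul_one, mul_inv_cancel]⟩⟩
  have hT : IsPGroup q T := fun a => ⟨k, Subtype.ext (by simpa using a.2.2)⟩
  exact Cfsg.Agent.Lib.Cores.le_pCore hT ⟨subset_normalClosure (Set.mem_singleton x), hx⟩

/-- The image of a `q`-element of `p`-power class size in a group with trivial `O_p`. -/
theorem map_mem_pCore {p : ℕ} [Fact p.Prime] {x : G} {k a : ℕ} (hx : x ^ q ^ k = 1)
    (hidx : classIndex x = p ^ a) :
    QuotientGroup.mk' (Cfsg.pCore p G) x ∈ Cfsg.pCore q (G ⧸ Cfsg.pCore p G) := by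
  set f := QuotientGroup.mk' (Cfsg.pCore p G)
  obtain ⟨a', -, ha'⟩ := (Nat.dvd_prime_pow Fact.out).mp
    (hidx ▸ (classIndex_map_dvd f (QuotientGroup.mk'_surjective _) x).2)
  exact mem_pCore_of_commute_conj (k := k) (by rw [← map_pow, hx, map_one]) fun g g' =>
    Cfsg.Agent.S4364.commute_conj p (Cfsg.Agent.Lib.Cores.pCore_quotient_pCore p) (f x) ha' g g'

/-- Coprime indices: a product of the two subgroups is everything. -/
theorem exists_mul_of_coprime_index (A B : Subgroup G) (h : A.index.Coprime B.index) (g : G) :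
    ∃ b ∈ B, ∃ a ∈ A, b * a = g := by
  classical
  have h1 : A.index ∣ A.relIndex B * B.index := by
    rw [← inf_relIndex_right, relIndex_mul_index inf_le_right]
    exact index_dvd_of_le inf_le_left
  have h2 : A.index ≤ A.relIndex B :=
    Nat.le_of_dvd (Nat.pos_of_ne_zero Subgroup.index_ne_zero_of_finite) (h.dvd_of_dvd_mul_right h1)
  let f : B ⧸ A.subgroupOf B → G ⧸ A :=
    Quotient.map' Subtype.val (fun u v h => by
      rw [QuotientGroup.leftRel_apply] at h ⊢
      exact h)
  have hinj : Function.Injective f := by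
    intro c c' hc
    obtain ⟨u, rfl⟩ := QuotientGroup.mk_surjective c
    obtain ⟨v, rfl⟩ := QuotientGroup.mk_surjective c'
    have h' : ((u : G) : G ⧸ A) = ((v : G) : G ⧸ A) := hc
    exact QuotientGroup.eq.mpr (mem_subgroupOf.mpr (by simpa using (QuotientGroup.eq (s := A)).mp h'))
  obtain ⟨c, hc⟩ := (hinj.bijective_of_nat_card_le h2).2 (g : G ⧸ A)
  obtain ⟨u, rfl⟩ := QuotientGroup.mk_surjective c
  exact ⟨u, u.2, (u : G)⁻¹ * g, QuotientGroup.eq.mp hc, mul_inv_cancel_left _ _⟩

/-- For coprime class sizes, pairs of conjugates are simultaneous conjugates. -/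
theorem exists_simultaneous {x y : G} (h : (classIndex x).Coprime (classIndex y)) (g g' : G) :
    ∃ w : G, w * x * w⁻¹ = g * x * g⁻¹ ∧ w * y * w⁻¹ = g' * y * g'⁻¹ := by
  obtain ⟨b, hb, a, ha, e⟩ := exists_mul_of_coprime_index _ _ h (g'⁻¹ * g)
  rw [mem_centralizer_singleton_iff] at ha hb
  have hg : g = g' * b * a := by rw [mul_assoc, e, mul_inv_cancel_left]
  refine ⟨g' * b, ?_, ?_⟩
  · rw [hg, show g' * b * a * x * (g' * b * a)⁻¹ = g' * b * (a * x * a⁻¹) * (g' * b)⁻¹ by group, ha,
      mul_inv_cancel_right]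
  · rw [show g' * b * y * (g' * b)⁻¹ = g' * (b * y * b⁻¹) * g'⁻¹ by group, hb, mul_inv_cancel_right]

/-- A `q`-element of `s`-power class size which is the quotient of two commuting `q`-elements with
`r`-power class sizes is central. -/
theorem index_eq_one_of_pair {r s a a' b : ℕ} (hr : r.Prime) (hs : s.Prime) (hrs : r ≠ s)
    (hrq : r ≠ q) (habel : ∀ P : Sylow q G, IsMulCommutative (P : Subgroup G))
    {x y : G} {k : ℕ} (hx : x ^ q ^ k = 1) (hy : y ^ q ^ k = 1) (hxy : Commute x y)
    (hix : classIndex x = r ^ a) (hiy : classIndex y = s ^ b)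
    (hixy : classIndex (x * y) = r ^ a') : classIndex y = 1 := by
  classical
  haveI : Fact r.Prime := ⟨hr⟩
  have hqp : q.Prime := Fact.out
  haveI hRn : (Cfsg.pCore r G).Normal := Subgroup.sSup_normal _ (fun _ hN => hN.1)
  set R := Cfsg.pCore r G with hR
  set f := QuotientGroup.mk' R
  set U := Cfsg.pCore q (G ⧸ R)
  haveI : U.Normal := Subgroup.sSup_normal _ (fun _ hN => hN.1)
  have hf : Function.Surjective f := QuotientGroup.mk'_surjective R
  have hxU : f x ∈ U := map_mem_pCore hx hix
  have hzU : f (x * y) ∈ U := map_mem_pCore (k := k) (by rw [hxy.mul_pow, hx, hy, one_mul]) hixy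
  have hyU : f y ∈ U := by
    have := mul_mem (inv_mem hxU) hzU
    rwa [map_mul, inv_mul_cancel_left] at this
  obtain ⟨P⟩ : Nonempty (Sylow q G) := inferInstance
  haveI := habel P
  have hU : ∀ u ∈ U, ∀ v ∈ U, u * v = v * u := by
    intro u hu v hv
    have hle : U ≤ (P : Subgroup G).map f :=
      Cfsg.Agent.Lib.Cores.pCore_le_sylow (P.mapSurjective hf)
    obtain ⟨u', hu', rfl⟩ := hle hu
    obtain ⟨v', hv', rfl⟩ := hle hv
    rw [← map_mul, ← map_mul,
      show u' * v' = v' * u' from congrArg Subtype.val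
        (‹IsMulCommutative (P : Subgroup G)›.is_comm.comm ⟨u', hu'⟩ ⟨v', hv'⟩)]
  letI : CommGroup U := { (inferInstance : Group U) with
    mul_comm := fun u v => Subtype.ext (hU u u.2 v v.2) }
  -- classes in the quotient
  haveI : Fintype (G ⧸ R) := Fintype.ofFinite _
  have hcop : (classIndex x).Coprime (classIndex y) := by
    rw [hix, hiy]; exact Nat.Coprime.pow _ _ ((Nat.coprime_primes hr hs).mpr hrs)
  have hcop' : (classIndex (x * y)).Coprime (classIndex y⁻¹) := by
    have e : classIndex y⁻¹ = classIndex y := by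
      unfold classIndex
      congr 1
      ext c
      rw [mem_centralizer_singleton_iff, mem_centralizer_singleton_iff]
      exact (Commute.inv_right_iff (a := c) (b := y))
    rw [hixy, e, hiy]
    exact Nat.Coprime.pow _ _ ((Nat.coprime_primes hr hs).mpr hrs)
  have hcent : ∀ g : G, f (g * y * g⁻¹) = f y := by
    intro g
    have hgy : f (g * y * g⁻¹) ∈ U := by
      rw [map_mul, map_mul, map_inv]
      exact Normal.conj_mem inferInstance _ hyU _
    let X : Finset U := Finset.univ.filter fun u => ∃ h : G, f (h * x * h⁻¹) = (u : G ⧸ R)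
    set t : U := ⟨f y, hyU⟩⁻¹ * ⟨f (g * y * g⁻¹), hgy⟩ with ht
    have hmaps : ∀ u ∈ X, u * t⁻¹ ∈ X := by
      intro u hu
      obtain ⟨h, hh⟩ := (Finset.mem_filter.mp hu).2
      -- shift into the class of `x * y`, then back
      obtain ⟨w, hw1, hw2⟩ := exists_simultaneous hcop h 1
      obtain ⟨v, hv1, hv2⟩ := exists_simultaneous hcop' w g
      refine Finset.mem_filter.mpr ⟨Finset.mem_univ _, v, ?_⟩
      have hv2' : v * y * v⁻¹ = g * y * g⁻¹ := by
        have := congrArg (·⁻¹) hv2
        simpa [mul_assoc] using this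
      have h3 : v * x * v⁻¹ = (w * x * w⁻¹) * (w * y * w⁻¹) * (v * y * v⁻¹)⁻¹ := by
        rw [show (w * x * w⁻¹) * (w * y * w⁻¹) = w * (x * y) * w⁻¹ by group, ← hv1]
        group
      rw [h3, hw1, hw2, hv2', map_mul, map_mul, map_inv, hh, one_mul, inv_one, mul_one]
      simp only [ht, Subgroup.coe_mul, Subgroup.coe_inv, mul_inv_rev, inv_inv]
      rw [mul_assoc]
      exact congrArg ((u : G ⧸ R) * ·) (hU _ hyU _ (inv_mem hgy))
    have himg : X.image (fun u => u * t⁻¹) = X :=
      Finset.eq_of_subset_of_card_le (Finset.image_subset_iff.mpr hmaps)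
        (by rw [Finset.card_image_of_injective _ (mul_left_injective _)])
    have h1 : t⁻¹ ^ X.card = 1 := by
      have h2 : ∏ u ∈ X, u * t⁻¹ = ∏ u ∈ X, u := by
        conv_rhs => rw [← himg]
        rw [Finset.prod_image (mul_left_injective t⁻¹).injOn]
      rw [Finset.prod_mul_distrib, Finset.prod_const] at h2
      exact mul_eq_left.mp h2
    have hX : X.card ∣ r ^ a := by
      have e : X.card = classIndex (f x) := by
        have e1 : ((Subtype.val : U → G ⧸ R) '' (X : Set U)) = MulAction.orbit (ConjAct (G ⧸ R)) (f x) := by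
          ext w
          rw [ConjAct.mem_orbit_conjAct, isConj_comm, isConj_iff]
          constructor
          · rintro ⟨u, hu, rfl⟩
            obtain ⟨h, hh⟩ := (Finset.mem_filter.mp (Finset.mem_coe.mp hu)).2
            exact ⟨f h, by rw [← hh, map_mul, map_mul, map_inv]⟩
          · rintro ⟨c, rfl⟩
            obtain ⟨h, rfl⟩ := hf c
            exact ⟨⟨f h * f x * (f h)⁻¹, Normal.conj_mem inferInstance _ hxU _⟩,
              Finset.mem_coe.mpr (Finset.mem_filter.mpr ⟨Finset.mem_univ _, h, by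
                rw [map_mul, map_mul, map_inv]⟩), rfl⟩
        calc X.card = ((Subtype.val : U → G ⧸ R) '' (X : Set U)).ncard := by
              rw [Set.ncard_image_of_injective _ Subtype.val_injective, Set.ncard_coe_finset]
          _ = classIndex (f x) := by
              rw [e1, ← MulAction.index_stabilizer, ConjAct.stabilizer_eq_centralizer]
              rfl
      rw [e]
      exact hix ▸ (classIndex_map_dvd f hf x).2
    obtain ⟨n, hn⟩ := (IsPGroup.iff_orderOf.mp (Cfsg.Agent.Lib.Cores.pCore_isPGroup q)) t⁻¹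
    have ht1 : t⁻¹ = 1 := by
      rw [← orderOf_eq_one_iff, hn]
      have h4 : q ^ n ∣ r ^ a := hn ▸ (orderOf_dvd_of_pow_eq_one h1).trans hX
      exact Nat.eq_one_of_dvd_coprimes
        (Nat.Coprime.pow _ _ ((Nat.coprime_primes hqp hr).mpr (Ne.symm hrq))) dvd_rfl h4
    rw [inv_eq_one, ht, inv_mul_eq_one] at ht1
    exact (congrArg Subtype.val ht1).symm
  -- lift to the group
  by_contra hne
  have hsr : ¬ r ∣ classIndex y := by
    rw [hiy]
    exact fun hd => hrs ((Nat.prime_dvd_prime_iff_eq hr hs).mp (hr.dvd_of_dvd_pow hd))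
  have hRc : R ≤ centralizer ({y} : Set G) := pCore_le_centralizer hsr
  apply hne
  rw [classIndex, index_eq_one, eq_top_iff]
  intro g _
  rw [mem_centralizer_singleton_iff]
  have hu : y⁻¹ * (g * y * g⁻¹) ∈ R := QuotientGroup.eq.mp (hcent g).symm
  have hc : Commute y (y⁻¹ * (g * y * g⁻¹)) := (mem_centralizer_singleton_iff.mp (hRc hu)).symm
  have h1 : (y⁻¹ * (g * y * g⁻¹)) ^ q ^ k = 1 := by
    rw [(show Commute y⁻¹ (g * y * g⁻¹) from by
      have := (Commute.refl y).mul_right hc
      rw [mul_inv_cancel_left] at this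
      exact this.inv_left).mul_pow, conj_pow, inv_pow, hy, inv_one, one_mul, mul_one, mul_inv_cancel]
  obtain ⟨n, hn⟩ := (Cfsg.Agent.Lib.Cores.pCore_isPGroup r) ⟨_, hu⟩
  have hn' : (y⁻¹ * (g * y * g⁻¹)) ^ r ^ n = 1 := by simpa using congrArg Subtype.val hn
  have h2 : y⁻¹ * (g * y * g⁻¹) = 1 := by
    rw [← orderOf_eq_one_iff]
    exact Nat.eq_one_of_dvd_coprimes
      (Nat.Coprime.pow _ _ ((Nat.coprime_primes hqp hr).mpr (Ne.symm hrq)))
      (orderOf_dvd_of_pow_eq_one h1) (orderOf_dvd_of_pow_eq_one hn')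
  rw [inv_mul_eq_one, eq_mul_inv_iff_mul_eq] at h2
  exact h2.symm

/-- If the class of a `q`-element has nontrivial `q`-power size then the Sylow is normal. -/
theorem sylow_normal_of_qPower (Q : Sylow q G)
    (hcl : ∀ x ∈ (Q : Subgroup G), ∃ (r a : ℕ), r.Prime ∧ classIndex x = r ^ a)
    {x : G} {a : ℕ} (hxQ : x ∈ (Q : Subgroup G)) (hx : classIndex x = q ^ a) (ha : a ≠ 0) :
    (Q : Subgroup G).Normal := by
  have hqp : q.Prime := Fact.out
  set O := Cfsg.pCore q G
  haveI : O.Normal := Subgroup.sSup_normal _ (fun _ hN => hN.1)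
  have hOQ : O ≤ (Q : Subgroup G) := Cfsg.Agent.Lib.Cores.pCore_le_sylow Q
  have hmem : ∀ y ∈ (Q : Subgroup G), ∀ c : ℕ, classIndex y = q ^ c → y ∈ O := by
    intro y hy c hc
    have hle : normalClosure ({y} : Set G) ≤ (Q : Subgroup G) := by
      rw [normalClosure, closure_le]
      intro w hw
      obtain ⟨y', hy', hyw⟩ := Group.mem_conjugatesOfSet_iff.mp hw
      rw [Set.mem_singleton_iff] at hy'
      rw [hy'] at hyw
      obtain ⟨g, rfl⟩ := isConj_iff.mp hyw
      obtain ⟨u, hu, d, hd, e⟩ :=
        Cfsg.Agent.Lib.PrimePowerClass.Basic.exists_mul_centralizer hc Q g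
      rw [mem_centralizer_singleton_iff] at hd
      rw [← e, show u * d * y * (u * d)⁻¹ = u * (d * y * d⁻¹) * u⁻¹ by group, hd, mul_inv_cancel_right]
      exact mul_mem (mul_mem hu hy) (inv_mem hu)
    exact Cfsg.Agent.Lib.Cores.le_pCore (Q.isPGroup'.to_le hle)
      (subset_normalClosure (Set.mem_singleton y))
  have hcov : ∀ y ∈ (Q : Subgroup G), y ∈ O ∨ y ∈ centralizer (O : Set G) := by
    intro y hy
    obtain ⟨r, c, hr, hc⟩ := hcl y hy
    by_cases hd : q ∣ classIndex y
    · obtain rfl : q = r := (Nat.prime_dvd_prime_iff_eq hqp hr).mp (hqp.dvd_of_dvd_pow (hc ▸ hd))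
      exact Or.inl (hmem y hy c hc)
    · refine Or.inr ?_
      rw [mem_centralizer_iff]
      exact fun o ho => mem_centralizer_singleton_iff.mp (pCore_le_centralizer hd ho)
  have hQO : (Q : Subgroup G) ≤ O := by
    by_contra hno
    obtain ⟨w, hwQ, hwO⟩ := SetLike.not_le_iff_exists.mp hno
    have hwC := (hcov w hwQ).resolve_left hwO
    have hQC : (Q : Subgroup G) ≤ centralizer (O : Set G) := by
      intro y hy
      rcases hcov y hy with hyO | hyC
      · have := (hcov (w * y) (mul_mem hwQ hy)).resolve_left fun h =>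
          hwO (by simpa using mul_mem h (inv_mem hyO))
        simpa using mul_mem (inv_mem hwC) this
      · exact hyC
    have h1 : (Q : Subgroup G) ≤ centralizer ({x} : Set G) := fun y hy =>
      mem_centralizer_singleton_iff.mpr
        (mem_centralizer_iff.mp (hQC hy) x (hmem x hxQ a hx)).symm
    have h2 := index_dvd_of_le h1
    rw [show (centralizer ({x} : Set G)).index = q ^ a from hx] at h2
    exact Q.not_dvd_index ((dvd_pow_self q ha).trans h2)
  rw [le_antisymm hQO hOQ]
  infer_instance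

/-- A complement to a normal Sylow subgroup centralizes it when a noncentral element of it has
class size a power of `q`, and class sizes are prime powers. -/
theorem complement_le_centralizer (Q : Sylow q G) [(Q : Subgroup G).Normal]
    (hcl : ∀ x ∈ (Q : Subgroup G), ∃ (r a : ℕ), r.Prime ∧ classIndex x = r ^ a)
    {K : Subgroup G} (hK : K.IsComplement' (Q : Subgroup G))
    {x : G} {a : ℕ} (hxQ : x ∈ (Q : Subgroup G)) (hx : classIndex x = q ^ a) (ha : a ≠ 0) :
    K ≤ centralizer ((Q : Subgroup G) : Set G) := by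
  have hqp : q.Prime := Fact.out
  set D : Subgroup G := ⁅(Q : Subgroup G), (Q : Subgroup G)⁆
  have hnc : ∀ b ∈ (Q : Subgroup G), ¬ (Q : Subgroup G) ≤ centralizer ({b} : Set G) →
      ∀ g : G, g * b * g⁻¹ * b⁻¹ ∈ D := by
    intro b hb hb' g
    obtain ⟨r, c, hr, hc⟩ := hcl b hb
    by_cases hd : q ∣ classIndex b
    · obtain rfl : q = r := (Nat.prime_dvd_prime_iff_eq hqp hr).mp (hqp.dvd_of_dvd_pow (hc ▸ hd))
      obtain ⟨u, hu, d, hd', e⟩ :=
        Cfsg.Agent.Lib.PrimePowerClass.Basic.exists_mul_centralizer hc Q g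
      rw [mem_centralizer_singleton_iff] at hd'
      rw [← e, show u * d * b * (u * d)⁻¹ * b⁻¹ = u * (d * b * d⁻¹) * u⁻¹ * b⁻¹ by group, hd',
        mul_inv_cancel_right]
      exact commutator_mem_commutator hu hb
    · obtain ⟨P, hP⟩ := Cfsg.Agent.Lib.SylowNumbers.Basic.exists_sylow_le (p := q) _ hd
      refine absurd ?_ hb'
      haveI := Sylow.unique_of_normal Q inferInstance
      rwa [Subsingleton.elim Q P]
  have hx' : ¬ (Q : Subgroup G) ≤ centralizer ({x} : Set G) := fun h => by
    have h2 := index_dvd_of_le h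
    rw [show (centralizer ({x} : Set G)).index = q ^ a from hx] at h2
    exact Q.not_dvd_index ((dvd_pow_self q ha).trans h2)
  have hall : ∀ y ∈ (Q : Subgroup G), ∀ g : G, g * y * g⁻¹ * y⁻¹ ∈ D := by
    intro y hy g
    by_cases hy' : (Q : Subgroup G) ≤ centralizer ({y} : Set G)
    · have hxy : ¬ (Q : Subgroup G) ≤ centralizer ({x * y} : Set G) := by
        intro h
        refine hx' fun w hw => ?_
        have h1 := mem_centralizer_singleton_iff.mp (h hw)
        have h2 := mem_centralizer_singleton_iff.mp (hy' hw)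
        rw [mem_centralizer_singleton_iff]
        have : w * x * y = x * w * y := by rw [mul_assoc, h1, mul_assoc, ← h2, mul_assoc]
        exact mul_right_cancel this
      have h1 := hnc (x * y) (mul_mem hxQ hy) hxy g
      have h2 := hnc x hxQ hx' g
      haveI : D.Normal := inferInstance
      have h3 : x * (g * y * g⁻¹ * y⁻¹) * x⁻¹ ∈ D := by
        have := mul_mem (inv_mem h2) h1
        rwa [show (g * x * g⁻¹ * x⁻¹)⁻¹ * (g * (x * y) * g⁻¹ * (x * y)⁻¹) =
          x * (g * y * g⁻¹ * y⁻¹) * x⁻¹ by group] at this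
      have := (inferInstance : D.Normal).conj_mem' _ h3 x
      rwa [show x⁻¹ * (x * (g * y * g⁻¹ * y⁻¹) * x⁻¹) * x = g * y * g⁻¹ * y⁻¹ by group] at this
    · exact hnc y hy hy' g
  have hcopK : (Nat.card K).Coprime (Nat.card (Q : Subgroup G)) := by
    have h1 : Nat.card K = (Q : Subgroup G).index := by
      have := hK.card_mul_card
      rw [← (Q : Subgroup G).index_mul_card] at this
      exact Nat.eq_of_mul_eq_mul_right Nat.card_pos this
    obtain ⟨n, hn⟩ := IsPGroup.iff_card.mp Q.isPGroup'
    rw [h1, hn]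
    exact ((hqp.coprime_iff_not_dvd.mpr Q.not_dvd_index).symm).pow_right n
  refine Cfsg.Agent.S0029.result K (Q : Subgroup G) (by rw [normalizer_eq_top_iff.mpr inferInstance]; exact le_top)
    (hcopK.coprime_dvd_right (card_subgroup_dvd_card _)) ?_
  intro g _ y hy
  have hle : D ≤ (frattini (Q : Subgroup G)).map (Q : Subgroup G).subtype := by
    rw [show D = (_root_.commutator (Q : Subgroup G)).map (Q : Subgroup G).subtype from
      (map_subtype_commutator _).symm]
    exact map_mono (Cfsg.Agent.Lib.PGroups.commutator_le_frattini Q.isPGroup')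
  exact hle (hall y hy g)

/-- With class sizes prime to `q` the group is `q`-solvable. -/
theorem isPSolvable (Q : Sylow q G)
    (hcl : ∀ x ∈ (Q : Subgroup G), ∃ (r a : ℕ), r.Prime ∧ classIndex x = r ^ a) :
    Cfsg.IsPSolvable q G := by
  have hR : (Q : Subgroup G) ≤ Radical.solRad G := fun x hx => by
    obtain ⟨r, a, hr, ha⟩ := hcl x hx
    exact Basic.mem_solRad hr x ha
  haveI : (Radical.solRad G).Characteristic := Radical.solRad_characteristic
  haveI : Group.IsSolvable (Radical.solRad G) := Radical.solRad_isSolvable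
  refine Cfsg.Agent.Lib.PSolvable.isPSolvable_of_extension (Radical.solRad G)
    Cfsg.Agent.Lib.PSolvable.isPSolvable_of_isSolvable
    (Cfsg.Agent.Lib.PSolvable.isPSolvable_of_coprime ?_)
  rw [← Subgroup.index_eq_card]
  exact ((Fact.out : q.Prime).coprime_iff_not_dvd.mpr fun hd =>
    Q.not_dvd_index (hd.trans (index_dvd_of_le hR))).symm

end Cfsg.Agent.Lib.PrimePowerClass.Baer
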