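import Cfsg.Agent.Lib.PrimePowerClass.Baer

/-!
The structure of groups in which every `q`-element has conjugacy class of prime-power size.
-/

set_option autoImplicit false
set_option linter.unusedSectionVars false
set_option linter.style.haveILetI false

namespace Cfsg.Agent.Lib.PrimePowerClass.BaerMain

open Subgroup
open scoped Pointwise
open Cfsg.Agent.Lib.PrimePowerClass.Baer

universe u

variable {G : Type u} [Group G] [Finite G] {q : ℕ} [Fact q.Prime]

/-- The image of a Sylow subgroup in `G / O_{q'}(G)` when all class sizes are prime to `q`. -/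
theorem map_sylow_eq (P : Sylow q G)
    (hcl : ∀ x ∈ (P : Subgroup G), ∃ (r a : ℕ), r.Prime ∧ classIndex x = r ^ a)
    (hnd : ∀ x ∈ (P : Subgroup G), ¬ q ∣ classIndex x) [(Cfsg.pPrimeCore q G).Normal] :
    (P : Subgroup G).map (QuotientGroup.mk' (Cfsg.pPrimeCore q G)) =
        Cfsg.pCore q (G ⧸ Cfsg.pPrimeCore q G) ∧
      centralizer ((Cfsg.pCore q (G ⧸ Cfsg.pPrimeCore q G) :
          Subgroup (G ⧸ Cfsg.pPrimeCore q G)) : Set (G ⧸ Cfsg.pPrimeCore q G)) ≤
        Cfsg.pCore q (G ⧸ Cfsg.pPrimeCore q G) ∧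
      IsMulCommutative (P : Subgroup G) := by
  set R := Cfsg.pPrimeCore q G with hR
  set f := QuotientGroup.mk' R
  set U := Cfsg.pCore q (G ⧸ R)
  have hf : Function.Surjective f := QuotientGroup.mk'_surjective R
  have hC : centralizer (U : Set (G ⧸ R)) ≤ U :=
    Cfsg.Agent.Lib.PSolvable.centralizer_pCore_le
      (Cfsg.Agent.Lib.PSolvable.isPSolvable_of_surjective f hf (isPSolvable P hcl))
      (Cfsg.Agent.Lib.Cores.pPrimeCore_quotient_pPrimeCore q)
  have hPC : ∀ y ∈ (P : Subgroup G), f y ∈ centralizer (U : Set (G ⧸ R)) := by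
    intro y hy
    rw [mem_centralizer_iff]
    intro w hw
    have h1 : ¬ q ∣ classIndex (f y) := fun hd =>
      hnd y hy (hd.trans (classIndex_map_dvd f hf y).2)
    exact mem_centralizer_singleton_iff.mp (pCore_le_centralizer h1 hw)
  have hmap : (P : Subgroup G).map f = U := by
    refine le_antisymm ?_ (Cfsg.Agent.Lib.Cores.pCore_le_sylow (P.mapSurjective hf))
    rintro w ⟨y, hy, rfl⟩
    exact hC (hPC y hy)
  refine ⟨hmap, hC, ⟨⟨fun u v => Subtype.ext ?_⟩⟩⟩
  have h1 : f ((u : G) * v) = f ((v : G) * u) := by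
    rw [map_mul, map_mul]
    exact (mem_centralizer_iff.mp (hPC u u.2) (f v) (hC (hPC v v.2))).symm
  have h2 : ((v : G) * u)⁻¹ * ((u : G) * v) ∈ R ⊓ (P : Subgroup G) :=
    ⟨QuotientGroup.eq.mp h1.symm,
      (P : Subgroup G).mul_mem ((P : Subgroup G).inv_mem ((P : Subgroup G).mul_mem v.2 u.2))
        ((P : Subgroup G).mul_mem u.2 v.2)⟩
  obtain ⟨n, hn⟩ := IsPGroup.iff_card.mp P.isPGroup'
  have hcop : (Nat.card R).Coprime (Nat.card (P : Subgroup G)) :=
    hn ▸ (Cfsg.Agent.Lib.Cores.pPrimeCore_coprime q).pow_right n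
  rw [inf_eq_bot_of_coprime hcop, mem_bot, inv_mul_eq_one] at h2
  exact h2.symm

/-- All noncentral elements of the Sylow subgroup have class sizes powers of one prime. -/
theorem exists_prime (Q : Sylow q G)
    (hcl : ∀ P : Sylow q G, ∀ x ∈ (P : Subgroup G), ∃ (r a : ℕ), r.Prime ∧ classIndex x = r ^ a)
    (hnd : ∀ P : Sylow q G, ∀ x ∈ (P : Subgroup G), ¬ q ∣ classIndex x)
    {x : G} (hxQ : x ∈ (Q : Subgroup G)) {r a : ℕ} (hr : r.Prime) (hx : classIndex x = r ^ a)
    (ha : a ≠ 0) : r ≠ q ∧ ∀ y ∈ (Q : Subgroup G), ∃ b : ℕ, classIndex y = r ^ b := by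
  haveI : (Cfsg.pPrimeCore q G).Normal := Subgroup.sSup_normal _ (fun _ hN => hN.1)
  have hqp : q.Prime := Fact.out
  have habel : ∀ P : Sylow q G, IsMulCommutative (P : Subgroup G) := fun P =>
    (map_sylow_eq P (hcl P) (hnd P)).2.2
  have hrq : r ≠ q := fun e => hnd Q x hxQ (by rw [hx, e]; exact dvd_pow_self q ha)
  refine ⟨hrq, fun y hy => ?_⟩
  obtain ⟨s, b, hs, hy'⟩ := hcl Q y hy
  by_cases hrs : r = s
  · exact ⟨b, hrs ▸ hy'⟩
  rcases Nat.eq_zero_or_pos b with rfl | hb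
  · exact ⟨0, by rw [hy', pow_zero, pow_zero]⟩
  exfalso
  have hsq : s ≠ q := fun e => hnd Q y hy (by rw [hy', e]; exact dvd_pow_self q hb.ne')
  haveI := habel Q
  have hxy : Commute x y := congrArg Subtype.val
    ((habel Q).is_comm.comm ⟨x, hxQ⟩ ⟨y, hy⟩)
  obtain ⟨k, hk⟩ := IsPGroup.iff_card.mp Q.isPGroup'
  have hpow : ∀ w ∈ (Q : Subgroup G), w ^ q ^ k = 1 := fun w hw => by
    have h1 : (⟨w, hw⟩ : (Q : Subgroup G)) ^ Nat.card (Q : Subgroup G) = 1 := pow_card_eq_one'
    rw [hk] at h1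
    simpa using congrArg Subtype.val h1
  obtain ⟨t, c, ht, hz⟩ := hcl Q (x * y) (mul_mem hxQ hy)
  have hcop : (r ^ a).Coprime (s ^ b) := Nat.Coprime.pow _ _ ((Nat.coprime_primes hr hs).mpr hrs)
  set D := centralizer ({x} : Set G) ⊓ centralizer ({y} : Set G)
  have hD : D.index = r ^ a * s ^ b := by
    refine le_antisymm ?_ (Nat.le_of_dvd (Nat.pos_of_ne_zero Subgroup.index_ne_zero_of_finite) ?_)
    · rw [← hx, ← hy']; exact index_inf_le
    · rw [← hx, ← hy']
      exact Nat.Coprime.mul_dvd_of_dvd_of_dvd (hx.symm ▸ hy'.symm ▸ hcop)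
        (index_dvd_of_le inf_le_left) (index_dvd_of_le inf_le_right)
  have hzd : t ^ c ∣ r ^ a * s ^ b := by
    rw [← hD, ← hz]
    refine index_dvd_of_le fun g hg => ?_
    obtain ⟨h1, h2⟩ := Subgroup.mem_inf.mp hg
    rw [mem_centralizer_singleton_iff] at h1 h2 ⊢
    exact ((show Commute g x from h1).mul_right (show Commute g y from h2)).eq
  have key : ∀ c' : ℕ, classIndex (x * y) = r ^ c' → False := fun c' hc' => by
    have h1 := index_eq_one_of_pair hr hs hrs hrq habel (hpow x hxQ) (hpow y hy) hxy hx hy' hc'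
    rw [hy', Nat.pow_eq_one] at h1
    exact h1.elim hs.ne_one hb.ne'
  have key' : ∀ c' : ℕ, classIndex (x * y) = s ^ c' → False := fun c' hc' => by
    have h1 := index_eq_one_of_pair hs hr (Ne.symm hrs) hsq habel (hpow y hy) (hpow x hxQ) hxy.symm
      hy' hx (hxy.eq ▸ hc')
    rw [hx, Nat.pow_eq_one] at h1
    exact h1.elim hr.ne_one ha
  rcases Nat.eq_zero_or_pos c with rfl | hc
  · exact key 0 (by rw [hz, pow_zero, pow_zero])
  rcases (Nat.Prime.dvd_mul ht).mp ((dvd_pow_self t hc.ne').trans hzd) with h | h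
  · exact key c (((Nat.prime_dvd_prime_iff_eq ht hr).mp (ht.dvd_of_dvd_pow h)) ▸ hz)
  · exact key' c (((Nat.prime_dvd_prime_iff_eq ht hs).mp (ht.dvd_of_dvd_pow h)) ▸ hz)

/-- The product of `O_p` and the Sylow subgroup is normal. -/
theorem sup_normal {p : ℕ} [Fact p.Prime] (Q : Sylow q G)
    (hp : ∀ y ∈ (Q : Subgroup G), ∃ b : ℕ, classIndex y = p ^ b) :
    (Cfsg.pCore p G ⊔ (Q : Subgroup G)).Normal := by
  haveI : (Cfsg.pCore p G).Normal := Subgroup.sSup_normal _ (fun _ hN => hN.1)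
  set f := QuotientGroup.mk' (Cfsg.pCore p G)
  have hf : Function.Surjective f := QuotientGroup.mk'_surjective _
  obtain ⟨k, hk⟩ := IsPGroup.iff_card.mp Q.isPGroup'
  have hmap : (Q : Subgroup G).map f = Cfsg.pCore q (G ⧸ Cfsg.pCore p G) := by
    refine le_antisymm ?_ (Cfsg.Agent.Lib.Cores.pCore_le_sylow (Q.mapSurjective hf))
    rintro w ⟨y, hy, rfl⟩
    obtain ⟨b, hb⟩ := hp y hy
    have h1 : (⟨y, hy⟩ : (Q : Subgroup G)) ^ Nat.card (Q : Subgroup G) = 1 := pow_card_eq_one'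
    rw [hk] at h1
    exact map_mem_pCore (k := k) (by simpa using congrArg Subtype.val h1) hb
  have h1 : ((Cfsg.pCore q (G ⧸ Cfsg.pCore p G)).comap f).Normal :=
    (Subgroup.sSup_normal _ (fun _ hN => hN.1)).comap f
  rwa [← hmap, comap_map_eq, QuotientGroup.ker_mk', sup_comm] at h1

/-- The quotient by `O_{q'}` is solvable. -/
theorem quotient_isSolvable {p : ℕ} [Fact p.Prime] (Q : Sylow q G)
    (hnd : ∀ x ∈ (Q : Subgroup G), ¬ q ∣ classIndex x)
    (hp : ∀ y ∈ (Q : Subgroup G), ∃ b : ℕ, classIndex y = p ^ b)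
    [(Cfsg.pPrimeCore q G).Normal] : Group.IsSolvable (G ⧸ Cfsg.pPrimeCore q G) := by
  have hpp : p.Prime := Fact.out
  obtain ⟨hmap, hC, habel⟩ := map_sylow_eq Q (fun x hx => by
    obtain ⟨b, hb⟩ := hp x hx
    exact ⟨p, b, hpp, hb⟩) hnd
  set R := Cfsg.pPrimeCore q G
  set f := QuotientGroup.mk' R
  set U := Cfsg.pCore q (G ⧸ R)
  have hf : Function.Surjective f := QuotientGroup.mk'_surjective R
  haveI : U.Normal := Subgroup.sSup_normal _ (fun _ hN => hN.1)
  have hU : ∀ u ∈ U, ∀ v ∈ U, u * v = v * u := by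
    intro u hu v hv
    rw [← hmap] at hu hv
    obtain ⟨u', hu', rfl⟩ := hu
    obtain ⟨v', hv', rfl⟩ := hv
    rw [← map_mul, ← map_mul,
      show u' * v' = v' * u' from congrArg Subtype.val (habel.is_comm.comm ⟨u', hu'⟩ ⟨v', hv'⟩)]
  letI : CommGroup U := { (inferInstance : Group U) with
    mul_comm := fun u v => Subtype.ext (hU u u.2 v v.2) }
  haveI : Group.IsSolvable U := Group.isSolvable_of_comm mul_comm
  let φ : G ⧸ R →* MulAut U := MulAut.conjNormal
  haveI : FaithfulSMul φ.range U := ⟨fun {a b} h => Subtype.ext (MulEquiv.ext h)⟩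
  have hUker : U ≤ φ.ker := fun u hu => by
    rw [MonoidHom.mem_ker]
    refine MulEquiv.ext fun v => Subtype.ext ?_
    simp only [φ, MulAut.conjNormal_apply, MulAut.one_apply]
    rw [hU u hu v v.2, mul_inv_cancel_right]
  have hcop : (Nat.card φ.range).Coprime (Nat.card U) := by
    obtain ⟨n, hn⟩ := IsPGroup.iff_card.mp (Cfsg.Agent.Lib.Cores.pCore_isPGroup (G := G ⧸ R) q)
    rw [hn, ← index_ker]
    refine Nat.Coprime.pow_right n (Nat.Coprime.symm ?_)
    refine (Fact.out : q.Prime).coprime_iff_not_dvd.mpr fun hd => (Q.mapSurjective hf).not_dvd_index ?_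
    refine hd.trans (dvd_trans (index_dvd_of_le hUker) (dvd_of_eq ?_))
    change U.index = ((Q : Subgroup G).map f).index
    rw [hmap]
  have horb : Cfsg.Agent.Lib.OrbitPower.Basic.POrbits p φ.range U := by
    intro u
    have hu : (u : G ⧸ R) ∈ (Q : Subgroup G).map f := by rw [hmap]; exact u.2
    obtain ⟨y, hy, hyu⟩ := hu
    obtain ⟨b, hb⟩ := hp y hy
    have e : (MulAction.stabilizer φ.range u).comap φ.rangeRestrict =
        centralizer ({(u : G ⧸ R)} : Set (G ⧸ R)) := by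
      ext g
      rw [mem_comap, MulAction.mem_stabilizer_iff, mem_centralizer_singleton_iff, Subtype.ext_iff]
      change ((φ g u : U) : G ⧸ R) = u ↔ _
      simp only [φ, MulAut.conjNormal_apply]
      exact mul_inv_eq_iff_eq_mul
    have hd : (MulAction.stabilizer φ.range u).index ∣ p ^ b := by
      rw [← index_comap_of_surjective _ φ.rangeRestrict_surjective, e, ← hyu, ← hb]
      exact (classIndex_map_dvd f hf y).2
    obtain ⟨j, -, hj⟩ := (Nat.dvd_prime_pow hpp).mp hd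
    exact ⟨j, hj⟩
  haveI := Cfsg.Agent.Lib.OrbitPower.Solvable.isSolvable p hcop horb
  refine Group.isSolvable_of_ker_le_range U.subtype φ.rangeRestrict ?_
  rw [MonoidHom.ker_rangeRestrict, range_subtype]
  intro g hg
  refine hC ?_
  rw [mem_centralizer_iff]
  intro w hw
  have h1 := congrArg Subtype.val (MulEquiv.congr_fun (MonoidHom.mem_ker.mp hg) ⟨w, hw⟩)
  simp only [φ, MulAut.conjNormal_apply, MulAut.one_apply] at h1
  exact (mul_inv_eq_iff_eq_mul.mp h1).symm

end Cfsg.Agent.Lib.PrimePowerClass.BaerMain
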